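import Cfsg.Agent.Lib.Fi24Spider.CheckGStep0
import Cfsg.Agent.Lib.Fi24Spider.CheckGStep1
import Cfsg.Agent.Lib.Fi24Spider.CheckGStep2
import Cfsg.Agent.Lib.Fi24Spider.CheckGStep3
import Cfsg.Agent.Lib.Fi24Spider.CheckGStep4
import Cfsg.Agent.Lib.Fi24Spider.CheckGStep5
import Cfsg.Agent.Lib.Fi24Spider.CheckGStep6
import Cfsg.Agent.Lib.Fi24Spider.CheckGStep7

/-!
The facts of the partial enumeration hold, and the loop proves a membership.
-/

set_option autoImplicit false

namespace CfsgLib.Fi24Spider
open CfsgLib.CosetEnum

theorem certG_steps : ∀ i < certG.F, certG.stepOK i = true := by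
  intro i hi
  have hb : ∀ j < 8, allUp certG.stepOK' 13 (j * 2 ^ 13) = true := fun j hj => by
    match j, hj with
    | 0, _ => exact certG_step0
    | 1, _ => exact certG_step1
    | 2, _ => exact certG_step2
    | 3, _ => exact certG_step3
    | 4, _ => exact certG_step4
    | 5, _ => exact certG_step5
    | 6, _ => exact certG_step6
    | 7, _ => exact certG_step7
    | n + 8, h => omega
  have hF : certG.F ≤ 8 * 2 ^ 13 := by decide +kernel
  have h := allUp_blocks hb i (by omega)
  unfold Cert.stepOK' at h
  simp only [strict_eq] at h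
  rwa [show ltB i certG.F = true from ltB_iff.mpr hi, pick_true] at h

/-- the word of the loop -/
def loopWord : List ℕ := 8 :: ((List.replicate 10 [3, 2, 1, 3, 4, 5, 3, 6, 7]).flatten ++ [8])

theorem loop_ok : ((certG.follow certG.F loopG 0 loopWord).elim false
    fun q => Nat.beq q.1 0 && q.2.isEmpty) = true := by decide +kernel

/-- The word of the loop lies in the subgroup. -/
theorem loop_mem {G : Type*} [Group G] {H : Subgroup G} {gen : ℕ → G} (m : Model certG H gen) :
    prodW gen loopWord ∈ H := by
  have h := loop_ok
  cases hq : certG.follow certG.F loopG 0 loopWord with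
  | none => simp [hq] at h
  | some q =>
    simp only [hq, Option.elim_some, Bool.and_eq_true] at h
    have := follow_end m (facts_hold m certG_steps) hq h.1 h.2
    rwa [psi_zero, one_mul, inv_one, mul_one] at this

end CfsgLib.Fi24Spider
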