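import Cfsg.Agent.Lib.Fi24Spider.W3
import Cfsg.Agent.Lib.Fi24Spider.CheckG
import Cfsg.Agent.Lib.Fi24Spider.DataImage
import Cfsg.Agent.Lib.CosetEnum.ChainSplit
import Cfsg.Agent.Lib.M23.Letters
import Cfsg.Agent.Lib.Fi23Mult.Main

/-!
The spider relation of Fi23 follows from the Coxeter relations and `(abcdefh)^9 = 1`.
-/

set_option autoImplicit false

namespace CfsgLib.Fi24Spider

open CfsgLib.CosetEnum Cfsg.Spor

/-- the further relator of the group without the spider relation -/
def extra3 : List (FreeGroup Fi23.Gen) :=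
  [(Fi23.a * Fi23.b * Fi23.c * Fi23.d * Fi23.e * Fi23.f * Fi23.h) ^ 9]

/-- the group without the spider relation -/
abbrev P3 : Type := CoxPresented Fi23.Gen Fi23.edges extra3

/-- the numbered generators -/
def gen3 : ℕ → P3 := presGen Fi23Pres.letters Fi23.edges extra3

theorem gen3_pair {k l : ℕ} (hk : k < 10) (hl : l < 10) :
    (gen3 k * gen3 l) ^ M23.lab k l = 1 := by
  have hk' : k < Fi23Pres.letters.length := hk
  have hl' : l < Fi23Pres.letters.length := hl
  rw [gen3, presGen, genOf_of_lt hk', genOf_of_lt hl', M23.lab, List.getD_eq_getElem _ _ hk',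
    List.getD_eq_getElem _ _ hl']
  exact of_pair (Fi23Pres.nodes _) (Fi23Pres.nodes _)

theorem gen3_sq (g : ℕ) : gen3 g * gen3 g = 1 := by
  unfold gen3 presGen genOf
  split
  · exact of_sq (Fi23Pres.nodes _)
  · simp

theorem extraWords3 : ExtraWords Fi23Pres.letters extra3 [M23.wordA] := by
  unfold ExtraWords extra3 M23.wordA
  refine .cons ?_ .nil
  intro P _ f _
  rw [map_pow, prodW_powWord]
  simp [prodW, genOf, Fi23Pres.letters, Fi23.a, Fi23.b, Fi23.c, Fi23.d, Fi23.e, Fi23.f, Fi23.h, mul_assoc]

theorem gen3_wordA : prodW gen3 M23.wordA = 1 := by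
  have h := (List.forall₂_iff_get.mp extraWords3).2 0 (by simp [extra3]) (by simp)
  simp only [List.get_eq_getElem] at h
  have h' := h P3 (fun x => PresentedGroup.of x) (fun x => of_sq (Fi23Pres.nodes x))
  rw [gen3, presGen]
  refine h'.symm.trans ?_
  have h4 : PresentedGroup.mk (coxRelators Fi23.edges ∪ {r | r ∈ extra3}) (extra3[0]'(by simp [extra3])) = 1 :=
    PresentedGroup.one_of_mem (Or.inr (List.getElem_mem _))
  refine Eq.trans ?_ h4
  refine DFunLike.congr_fun (FreeGroup.ext_hom _ _ fun x => ?_) _
  simp
  rfl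

theorem gen23_pair {k l : ℕ} (hk : k < 10) (hl : l < 10) :
    (Fi23Pres.gen k * Fi23Pres.gen l) ^ M23.lab k l = 1 := by
  have hk' : k < Fi23Pres.letters.length := hk
  have hl' : l < Fi23Pres.letters.length := hl
  rw [Fi23Pres.gen, presGen, genOf_of_lt hk', genOf_of_lt hl', M23.lab, List.getD_eq_getElem _ _ hk',
    List.getD_eq_getElem _ _ hl']
  exact of_pair (Fi23Pres.nodes _) (Fi23Pres.nodes _)

theorem exists_lift3 {Γ : Type*} [Group Γ] (f : ℕ → Γ)
    (hpair : ∀ k < 10, ∀ l < 10, (f k * f l) ^ M23.lab k l = 1) (hA : prodW f M23.wordA = 1) :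
    ∃ ψ : P3 →* Γ, ∀ k < 10, ψ (gen3 k) = f k := by
  let f' : Fi23.Gen → Γ := fun x => f (Fi23Pres.letters.idxOf x)
  have hidx : ∀ x : Fi23.Gen, Fi23Pres.letters.idxOf x < 10 ∧
      Fi23Pres.letters.getD (Fi23Pres.letters.idxOf x) .a = x := by
    intro x; cases x <;> decide
  have hp : ∀ x y, (f' x * f' y) ^ coxLabel Fi23.edges x y = 1 := fun x y => by
    have h := hpair _ (hidx x).1 _ (hidx y).1
    rwa [M23.lab, (hidx x).2, (hidx y).2] at h
  have hrels : ∀ r ∈ coxRelators Fi23.edges ∪ {r | r ∈ extra3}, FreeGroup.lift f' r = 1 := by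
    rintro r (⟨x, -, y, -, rfl⟩ | hr)
    · simp only [map_pow, map_mul, FreeGroup.lift_apply_of]
      exact hp x y
    · simp only [Set.mem_ofPred_eq, extra3, List.mem_cons, List.not_mem_nil, or_false] at hr
      subst hr
      rw [M23.wordA, prodW_powWord] at hA
      rw [map_pow]
      refine Eq.trans (congrArg (· ^ 9) ?_) hA
      simp only [Fi23.a, Fi23.b, Fi23.c, Fi23.d, Fi23.e, Fi23.f, Fi23.h, map_mul,
        FreeGroup.lift_apply_of, prodW_cons, prodW_nil, mul_one, mul_assoc]
      rfl
  refine ⟨PresentedGroup.toGroup hrels, fun k hk => ?_⟩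
  rw [gen3, presGen, genOf_of_lt (show k < Fi23Pres.letters.length from hk), PresentedGroup.toGroup.of]
  show f (Fi23Pres.letters.idxOf _) = f k
  rw [List.Nodup.idxOf_getElem (by decide) k (show k < Fi23Pres.letters.length from hk)]

/-- the letters of the subdiagram with arms 3, 2, 2 -/
def sub8 (g : ℕ) : ℕ := [0, 1, 2, 3, 4, 5, 7, 8].getD g 10

theorem sub8_facts : ∀ g < 8, sub8 g < 10 ∧ ∀ h < 8,
    coxLabel edges (letters.getD g .a) (letters.getD h .a) = M23.lab (sub8 g) (sub8 h) := by
  decide +kernel

theorem exists_eta : ∃ η : W3 →* P3, ∀ g < 8, η (gen g) = gen3 (sub8 g) := by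
  let f : Gen → P3 := fun x => gen3 (sub8 (letters.idxOf x))
  have hidx : ∀ x : Gen, letters.idxOf x < 8 ∧ letters.getD (letters.idxOf x) .a = x := by
    intro x; cases x <;> decide
  have hrels : ∀ r ∈ coxRelators edges ∪ {r | r ∈ extra}, FreeGroup.lift f r = 1 := by
    rintro r (⟨x, -, y, -, rfl⟩ | hr)
    · simp only [map_pow, map_mul, FreeGroup.lift_apply_of, f]
      obtain ⟨h1, h2⟩ := sub8_facts _ (hidx x).1
      have h3 := h2 _ (hidx y).1
      rw [(hidx x).2, (hidx y).2] at h3
      rw [h3]
      exact gen3_pair h1 (sub8_facts _ (hidx y).1).1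
    · simp only [Set.mem_ofPred_eq, extra, List.mem_cons, List.not_mem_nil, or_false] at hr
      subst hr
      have hA := gen3_wordA
      rw [M23.wordA, prodW_powWord] at hA
      rw [map_pow]
      refine Eq.trans (congrArg (· ^ 9) ?_) hA
      simp only [f, map_mul, FreeGroup.lift_apply_of, prodW_cons, prodW_nil, mul_one, mul_assoc]
      rfl
  refine ⟨PresentedGroup.toGroup hrels, fun g hg => ?_⟩
  rw [gen, presGen, genOf_of_lt (show g < letters.length from hg), PresentedGroup.toGroup.of]
  show gen3 (sub8 (letters.idxOf _)) = _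
  rw [List.Nodup.idxOf_getElem (by decide) g (show g < letters.length from hg)]

theorem image_level0 : levelOK Fi23Pres.certA imageLevelsLevel0 [imageLevelsLevel1, imageLevelsLevel2] = true := by
  decide +kernel

theorem image_level1 : levelOK Fi23Pres.certA imageLevelsLevel1 [imageLevelsLevel2] = true := by
  decide +kernel

theorem image_level2 : levelOK Fi23Pres.certA imageLevelsLevel2 [] = true := by decide +kernel

theorem image_size : Nat.beq (chainSize Fi23Pres.certA imageLevels) 4585351680 = true := by decide +kernel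

theorem image_letters : ((imageLevels.all fun l => l.ws.all fun w => w.all fun g => Nat.blt g 10 && !(g == 6 || g == 9)) &&
    (List.range 10).all fun g => g == 6 || g == 9 || (List.range 8).any fun h => sub8 h == g) = true := by
  decide +kernel

theorem image_ok : (chainOK Fi23Pres.certA imageLevels &&
    Nat.beq (chainSize Fi23Pres.certA imageLevels) 4585351680 &&
    (imageLevels.all fun l => l.ws.all fun w => w.all fun g => Nat.blt g 10 && !(g == 6 || g == 9)) &&
    (List.range 10).all fun g => g == 6 || g == 9 || (List.range 8).any fun h => sub8 h == g) = true := by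
  rw [Bool.and_assoc, image_letters, Bool.and_true, image_size, Bool.and_true, imageLevels]
  exact chainOK_cons image_level0 (chainOK_cons image_level1 (chainOK_cons image_level2 rfl))

/-- the letters of the partial enumeration in the group without the spider relation -/
def loopL (g : ℕ) : ℕ := [0, 1, 2, 3, 4, 5, 7, 8, 6].getD g 10

/-- the relators of the partial enumeration hold -/
def loopRelsOK : Bool :=
  certG.rels.all (fun r => r.map loopL == M23.wordA ||
    (List.range 10).any fun i => (List.range 10).any fun j => r.map loopL == pairWord i j (M23.lab i j)) &&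
  certG.subs.all (fun w => w.all fun g => Nat.blt g 8) &&
  decide (certG.K = 9) && certG.invs == List.range 9

theorem loop_rels_ok : loopRelsOK = true := by decide +kernel

theorem loopL_sub : ∀ g < 8, loopL g = sub8 g := by decide +kernel

theorem commute_of_sq {Γ : Type*} [Group Γ] {a b : Γ} (ha : a * a = 1) (hb : b * b = 1)
    (h : (a * b) ^ 2 = 1) : Commute a b := by
  rw [pow_two] at h
  have := eq_inv_of_mul_eq_one_left h
  rw [mul_inv_rev, inv_eq_of_mul_eq_one_right ha, inv_eq_of_mul_eq_one_right hb] at this
  exact this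

theorem braid_of_cube {Γ : Type*} [Group Γ] {a b : Γ} (ha : a * a = 1) (hb : b * b = 1)
    (h : (a * b) ^ 3 = 1) : a * b * a = b * a * b := by
  have e : a * b * a * (b * a * b) = 1 := by
    rw [← h, pow_succ, pow_two]
    simp only [mul_assoc]
  have := eq_inv_of_mul_eq_one_left e
  simpa only [mul_inv_rev, inv_eq_of_mul_eq_one_right ha, inv_eq_of_mul_eq_one_right hb, mul_assoc] using this

theorem commute_word {Γ : Type*} [Group Γ] {x : Γ} {f : ℕ → Γ} :
    ∀ {w : List ℕ}, (∀ g ∈ w, Commute x (f g)) → Commute x (prodW f w)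
  | [], _ => by simp
  | g :: w, h => by
    rw [prodW_cons]
    exact (h g List.mem_cons_self).mul_right (commute_word fun y hy => h y (List.mem_cons_of_mem _ hy))

theorem cube_check : (sameBases certA levels (spiderW ++ (spiderW ++ spiderW)) []) = true := by
  decide +kernel

theorem cube_ok : spider * spider * spider = 1 := by
  rw [mul_assoc, spider, ← prodW_append, ← prodW_append]
  refine (setupA.eq_of_bases chain_ok size_eq (fun g hg => ?_) (by simp) cube_check).trans (prodW_nil gen)
  simp only [List.mem_append] at hg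
  rcases hg with h | h | h <;> exact spider_lt g h

/-- parents of the letters in the diagram -/
def parentL (k : ℕ) : ℕ := [0, 0, 1, 2, 3, 4, 5, 3, 7, 6].getD k 0

theorem parent_facts : ∀ k < 10, k ≠ 0 → parentL k < k ∧ M23.lab k (parentL k) = 3 := by decide +kernel

theorem ab_eq (k : ℕ) : k < 10 → Abelianization.of (gen3 k) = Abelianization.of (gen3 0) := by
  induction k using Nat.strong_induction_on with
  | _ k ih =>
    intro hk
    by_cases h0 : k = 0
    · rw [h0]
    · obtain ⟨hlt, hlab⟩ := parent_facts k hk h0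
      rw [← ih _ hlt (by omega)]
      have h := gen3_pair hk (show parentL k < 10 by omega)
      rw [hlab] at h
      have e := congrArg Abelianization.of (braid_of_cube (gen3_sq k) (gen3_sq (parentL k)) h)
      simp only [map_mul] at e
      rw [mul_comm (Abelianization.of (gen3 (parentL k))) (Abelianization.of (gen3 k))] at e
      exact mul_left_cancel e

theorem wordS_commutator : prodW gen3 M23.wordS ∈ commutator P3 := by
  rw [← Abelianization.ker_of, MonoidHom.mem_ker, map_prodW]
  rw [prodW_congr (gen' := fun _ => Abelianization.of (gen3 0)) (fun g hg => ab_eq g (by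
    have : ∀ g ∈ M23.wordS, g < 10 := by decide +kernel
    exact this g hg))]
  have hx : Abelianization.of (gen3 0) * Abelianization.of (gen3 0) = 1 := by
    rw [← map_mul, gen3_sq, map_one]
  have key : ∀ u : List ℕ, prodW (fun _ => Abelianization.of (gen3 0)) u =
      Abelianization.of (gen3 0) ^ u.length := by
    intro u; induction u with
    | nil => simp
    | cons g u ih => rw [prodW_cons, ih, List.length_cons, pow_succ']
  rw [key, show M23.wordS.length = 2 * 45 by decide +kernel, pow_mul, pow_two, hx, one_pow]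

/-- A central spider is trivial, as Fi23 has no proper stem extensions. -/
theorem spider_eq_one (π : P3 →* Fi23) (hπ : ∀ k < 10, π (gen3 k) = Fi23Pres.gen k)
    (hs : π (prodW gen3 M23.wordS) = 1) (h3 : prodW gen3 M23.wordS ^ 3 = 1)
    (hc : ∀ k < 10, Commute (gen3 k) (prodW gen3 M23.wordS)) : prodW gen3 M23.wordS = 1 := by
  set s := prodW gen3 M23.wordS with hsdef
  have hcen : ∀ x : P3, Commute x s := by
    intro x
    have hx : x ∈ Subgroup.closure {y | ∃ g < 10, gen3 g = y} := by
      have h := presGen_top (edges := Fi23.edges) (extra := extra3) Fi23Pres.mem_letters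
        (C := Fi23Pres.certA) rfl
      rw [show Fi23Pres.certA.K = 10 from rfl] at h
      exact h ▸ Subgroup.mem_top x
    induction hx using Subgroup.closure_induction with
    | mem y hy => obtain ⟨g, hg, rfl⟩ := hy; exact hc g hg
    | one => exact Commute.one_left _
    | mul a b _ _ ha hb => exact ha.mul_left hb
    | inv a _ ha => exact ha.inv_left
  set N := Subgroup.zpowers s with hN
  have hNc : N ≤ Subgroup.center P3 := by
    rw [hN, Subgroup.zpowers_le]
    exact Subgroup.mem_center_iff.mpr fun x => (hcen x).eq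
  haveI : N.Normal := ⟨fun n hn g => by
    rw [Subgroup.mem_center_iff.mp (hNc hn) g, mul_inv_cancel_right]; exact hn⟩
  obtain ⟨ψ, hψ⟩ := M23.exists_hom (fun k => (QuotientGroup.mk (gen3 k) : P3 ⧸ N))
    (fun k hk l hl => by
      rw [← QuotientGroup.mk_mul, ← QuotientGroup.mk_pow, gen3_pair hk hl, QuotientGroup.mk_one])
    ((map_prodW (QuotientGroup.mk' N) _ _).symm.trans ((QuotientGroup.eq_one_iff _).mpr
      (Subgroup.mem_zpowers s)))
    ((map_prodW (QuotientGroup.mk' N) _ _).symm.trans (by
      rw [gen3_wordA]; exact map_one _))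
  have hcomp : ψ.comp π = QuotientGroup.mk' N := PresentedGroup.ext fun z => by
    have h : Fi23Pres.letters.idxOf z < 10 := List.idxOf_lt_length_iff.mpr (Fi23Pres.mem_letters z)
    have e : gen3 (Fi23Pres.letters.idxOf z) = PresentedGroup.of z := by
      rw [gen3, presGen, genOf_of_lt (show _ < Fi23Pres.letters.length from h), List.getElem_idxOf]
    rw [MonoidHom.comp_apply, ← e, hπ _ h, hψ _ h]
    rfl
  have hker : π.ker = N := le_antisymm (fun x hx => (QuotientGroup.eq_one_iff x).mp (by
    rw [← QuotientGroup.mk'_apply, ← hcomp, MonoidHom.comp_apply, MonoidHom.mem_ker.mp hx, map_one]))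
    (Subgroup.zpowers_le.mpr (MonoidHom.mem_ker.mpr hs))
  haveI : Finite N := Finite.of_equiv _
    (finEquivZPowers (isOfFinOrder_iff_pow_eq_one.mpr ⟨3, by norm_num, h3⟩))
  have hsurj : Function.Surjective π := by
    rw [← MonoidHom.range_eq_top, eq_top_iff, ← Fi23Pres.setupA.gen_top, Subgroup.closure_le]
    rintro y ⟨g, hg, rfl⟩
    exact ⟨gen3 g, hπ g hg⟩
  haveI : Finite (P3 ⧸ N) := hker ▸
    Finite.of_equiv _ (QuotientGroup.quotientKerEquivOfSurjective π hsurj).symm.toEquiv
  haveI : Finite P3 := Finite.of_subgroup_quotient N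
  have hstem : Cfsg.IsStemExtension π := ⟨hsurj, hker ▸ hNc, by
    rw [hker, hN, Subgroup.zpowers_le]; exact wordS_commutator⟩
  obtain ⟨φ, hφ⟩ := CfsgLib.Fi23Mult.multiplier_fi23.2 P3 π hstem
  obtain ⟨a, ha⟩ := hφ ⟨s, MonoidHom.mem_ker.mpr hs⟩
  rw [Subsingleton.elim a 1, map_one] at ha
  exact (congrArg Subtype.val ha).symm

/-- The spider relation holds without being imposed. -/
theorem spider3 : prodW gen3 M23.wordS = 1 := by
  obtain ⟨η, hη⟩ := exists_eta
  -- the map to Fi23
  obtain ⟨π, hπ⟩ := exists_lift3 Fi23Pres.gen (fun k hk l hl => gen23_pair hk hl) (by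
    rw [M23.wordA]
    exact Fi23Pres.modelA.rel _ (by decide +kernel))
  set s := η spider with hs
  have hsW : s = prodW gen3 M23.wordS := by
    have e : M23.wordS = spiderW.map sub8 := by decide +kernel
    rw [hs, spider, map_prodW, e]
    have hlt : ∀ g ∈ spiderW, g < 8 := by decide +kernel
    have key : ∀ w : List ℕ, (∀ g ∈ w, g < 8) →
        prodW (fun g => η (gen g)) w = prodW gen3 (w.map sub8) := by
      intro w hw
      induction w with
      | nil => rfl
      | cons g w ih =>
        rw [List.forall_mem_cons] at hw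
        rw [List.map_cons, prodW_cons, prodW_cons, hη g hw.1, ih hw.2]
    exact key _ hlt
  rw [← hsW]
  -- the kernel on W3
  let ι : W3 →* Fi23 := π.comp η
  have hspider : spider ≠ 1 := by
    intro e
    have h := setupA.rho_prodW spider_lt setupA.base
    rw [show prodW gen spiderW = spider from rfl, e, map_one, Equiv.Perm.one_apply] at h
    revert h
    show ((0 : ℕ) = _) → False
    decide +kernel
  have hιs : ι spider = 1 := by
    show π s = 1
    rw [hsW, map_prodW, prodW_congr (gen' := Fi23Pres.gen) (fun g hg => hπ g (by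
      have : ∀ g ∈ M23.wordS, g < 10 := by decide +kernel
      exact this g hg))]
    exact Fi23Pres.modelA.rel _ (by decide +kernel)
  have hker : ι.ker = Subgroup.zpowers spider := by
    have hcard : 3 * Nat.card ι.ker ≤ 9 := by
      have hsz := Subgroup.card_mul_index ι.ker
      rw [Subgroup.index_ker] at hsz
      have hb : Nat.card W3 ≤ 13756055040 := finite_and_card.2
      have himg : 4585351680 ≤ Nat.card ι.range := by
        have h := image_ok
        simp only [Bool.and_eq_true] at h
        obtain ⟨⟨⟨hok, hsize⟩, hws⟩, hcov⟩ := h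
        have hinj := Fi23Pres.card_faithful.2
        calc 4585351680 = chainSize Fi23Pres.certA imageLevels := (Nat.eq_of_beq_eq_true hsize).symm
          _ ≤ Nat.card (chainGroup Fi23Pres.setupA.complete Fi23Pres.setupA.action imageLevels) :=
              chainSize_le _ _ hok
          _ ≤ Nat.card (ι.range.map Fi23Pres.rho) := by
              refine Subgroup.card_le_of_le ((Subgroup.closure_le _).mpr ?_)
              rintro y ⟨w, hw, rfl⟩
              obtain ⟨l, hl, hwl⟩ := List.mem_flatMap.mp hw
              simp only [List.all_eq_true] at hws hcov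
              have hg8 : ∀ g ∈ w, g < 10 ∧ ∃ h < 8, sub8 h = g := by
                intro g hg
                have h1 := hws l hl w hwl g hg
                simp only [Bool.and_eq_true, Nat.blt_eq, Bool.not_eq_true', Bool.or_eq_false_iff,
                  beq_eq_false_iff_ne] at h1
                have h2 := hcov g (List.mem_range.mpr h1.1)
                simp only [Bool.or_eq_true, beq_iff_eq, List.any_eq_true, List.mem_range] at h2
                exact ⟨h1.1, (h2.resolve_left fun e => e.elim h1.2.1 h1.2.2)⟩
              refine ⟨prodW Fi23Pres.gen w, ?_, ?_⟩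
              · refine Subgroup.list_prod_mem _ fun x hx => ?_
                obtain ⟨g, hg, rfl⟩ := List.mem_map.mp hx
                obtain ⟨hlt, h, hh, rfl⟩ := hg8 g hg
                exact ⟨gen h, by show π (η (gen h)) = _; rw [hη h hh, hπ _ hlt]⟩
              · rw [map_prodW]
                exact prodW_congr fun g hg => Fi23Pres.setupA.rho_gen g (hg8 g hg).1
          _ = Nat.card ι.range := (Nat.card_congr (Subgroup.equivMapOfInjective _ _ hinj).toEquiv).symm
      nlinarith
    haveI : Finite ι.ker := inferInstance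
    have hle : Subgroup.zpowers spider ≤ ι.ker := Subgroup.zpowers_le.mpr (MonoidHom.mem_ker.mpr hιs)
    refine (Subgroup.eq_of_le_of_card_ge hle ?_).symm
    have hdvd := Subgroup.card_dvd_of_le hle
    have h2 : 1 < Nat.card (Subgroup.zpowers spider) := by
      rw [Subgroup.one_lt_card_iff_ne_bot]
      simp [hspider]
    obtain ⟨q, hq⟩ := hdvd
    have hq0 : 0 < q := by
      rcases Nat.eq_zero_or_pos q with rfl | h
      · have := Nat.card_pos (α := ι.ker)
        omega
      · exact h
    have : q < 2 := by
      by_contra h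
      have : 4 ≤ Nat.card ι.ker := by rw [hq]; nlinarith
      omega
    rw [hq, show q = 1 by omega, mul_one]
  have hcomm8 : ∀ g < 8, Commute (gen3 (sub8 g)) s := fun g hg => by
    rw [← hη g hg, hs]
    exact (show Commute (gen g) spider from spider_central (gen g)).map η
  -- the partial enumeration
  have hloop := loop_rels_ok
  simp only [loopRelsOK, Bool.and_eq_true, List.all_eq_true, Bool.or_eq_true, beq_iff_eq,
    List.any_eq_true, List.mem_range, Nat.blt_eq, decide_eq_true_eq] at hloop
  obtain ⟨⟨⟨hrels, hsubs⟩, hK⟩, hinvs⟩ := hloop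
  let f : ℕ → P3 := fun g => gen3 (loopL g)
  have hmap : ∀ w : List ℕ, prodW f w = prodW gen3 (w.map loopL) := by
    intro w; induction w with
    | nil => rfl
    | cons g w ih => rw [List.map_cons, prodW_cons, prodW_cons, ih]
  have hmodel : Model certG η.range f := by
    refine ⟨?_, fun g => ?_, fun r hr => ?_, fun w hw => ?_⟩
    · show gen3 (loopL certG.K) = 1
      rw [hK]
      unfold gen3 presGen
      exact genOf_of_ge (show Fi23Pres.letters.length ≤ loopL 9 by decide +kernel)
    · show gen3 (loopL g) * gen3 (loopL (certG.inv g)) = 1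
      rw [show certG.inv g = g by
        rw [Cert.inv, hinvs, List.getD_eq_getElem?_getD]
        by_cases hg : g < 9 <;> simp [hg]]
      exact gen3_sq _
    · rw [hmap]
      rcases hrels r hr with e | ⟨i, hi, j, hj, e⟩
      · rw [e]; exact gen3_wordA
      · rw [e, prodW_pairWord]; exact gen3_pair hi hj
    · refine Subgroup.list_prod_mem _ fun x hx => ?_
      obtain ⟨g, hg, rfl⟩ := List.mem_map.mp hx
      exact ⟨gen g, by rw [hη g (hsubs w hw g hg)]; show _ = gen3 (loopL g); rw [loopL_sub g (hsubs w hw g hg)]⟩
  have hmem : gen3 6 * s * gen3 6 ∈ η.range := by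
    have h := loop_mem hmodel
    rw [hmap] at h
    have e : loopWord.map loopL = 6 :: (M23.wordS ++ [6]) := by decide +kernel
    rw [e, prodW_cons, prodW_append, prodW_cons, prodW_nil, mul_one, ← hsW, ← mul_assoc] at h
    exact h
  obtain ⟨x, hx⟩ := hmem
  -- identify the element
  have hcomm6 : ∀ g ∈ otherSeven, Commute (gen3 (sub8 g)) (gen3 6) := by
    intro g hg
    have hlab : ∀ g ∈ otherSeven, sub8 g < 10 ∧ M23.lab (sub8 g) 6 = 2 := by decide +kernel
    obtain ⟨h1, h2⟩ := hlab g hg
    have h := gen3_pair h1 (show 6 < 10 by norm_num)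
    rw [h2] at h
    exact commute_of_sq (gen3_sq _) (gen3_sq _) h
  have hcommx : ∀ g ∈ otherSeven, ∃ u ∈ ι.ker, gen g * x = x * gen g * u := by
    intro g hg
    have hg8 : g < 8 := (by decide +kernel : ∀ g ∈ otherSeven, g < 8) g hg
    refine ⟨(x * gen g)⁻¹ * (gen g * x), MonoidHom.mem_ker.mpr ?_, by group⟩
    show π (η _) = 1
    have h : Commute (gen3 (sub8 g)) (η x) := by
      rw [hx]
      exact ((hcomm6 g hg).mul_right (hcomm8 g hg8)).mul_right (hcomm6 g hg)
    rw [map_mul η, map_inv η, map_mul η, map_mul η, hη g hg8, h.eq, inv_mul_cancel, map_one]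
  have hxc : ∀ g ∈ otherSeven, gen g * x = x * gen g := by
    intro g hg
    obtain ⟨u, hu, e⟩ := hcommx g hg
    rw [hker] at hu
    obtain ⟨n, rfl⟩ := Subgroup.mem_zpowers_iff.mp hu
    have hc : ∀ y : W3, Commute y (spider ^ n) := fun y => (show Commute y spider from spider_central y).zpow_right n
    have e2 : x = gen g * x * gen g * spider ^ n := by
      calc x = gen g * (gen g * x) := by rw [← mul_assoc, gen_sq, one_mul]
        _ = gen g * (x * gen g * spider ^ n) := by rw [e]
        _ = gen g * x * gen g * spider ^ n := by simp only [mul_assoc]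
    have e3 : gen g * x * gen g = x * spider ^ n := by
      rw [e, show x * gen g * spider ^ n * gen g = x * (gen g * (spider ^ n * gen g)) by group,
        ← (hc (gen g)).eq, ← mul_assoc (gen g), gen_sq, one_mul]
    have e4 : x * (spider ^ n * spider ^ n) = x * 1 := by
      rw [mul_one, ← mul_assoc, ← e3, ← e2]
    have h2 : spider ^ n * spider ^ n = 1 := mul_left_cancel e4
    have h3 : spider * spider * spider = 1 := by
      have := cube_ok
      exact this
    have hn : spider ^ n = 1 := by
      have h6 : (spider ^ n) ^ 3 = 1 := by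
        rw [← zpow_natCast (spider ^ n), ← zpow_mul, mul_comm, zpow_mul, zpow_natCast, pow_succ,
          pow_two, h3, one_zpow]
      rw [pow_succ, pow_two, h2, one_mul] at h6
      exact h6
    rw [e, hn, mul_one]
  obtain ⟨m, hm⟩ := comm_other hxc
  have hconj : gen3 6 * s * gen3 6 = s ^ m := by rw [← hx, hm, map_pow]
  -- the spider commutes with every generator
  have h5 : Commute (gen3 5) s := hcomm8 5 (by norm_num)
  have hσ : Commute (gen3 6) s := by
    have hb : gen3 6 * gen3 5 * gen3 6 = gen3 5 * gen3 6 * gen3 5 := by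
      have h := gen3_pair (show 6 < 10 by norm_num) (show 5 < 10 by norm_num)
      rw [show M23.lab 6 5 = 3 by decide +kernel] at h
      exact braid_of_cube (gen3_sq _) (gen3_sq _) h
    have i5 : (gen3 5)⁻¹ = gen3 5 := inv_eq_of_mul_eq_one_right (gen3_sq 5)
    have i6 : (gen3 6)⁻¹ = gen3 6 := inv_eq_of_mul_eq_one_right (gen3_sq 6)
    set c := fun (y : P3) => MulAut.conj y with hc
    have hc6 : c (gen3 6) s = s ^ m := by simp only [hc, MulAut.conj_apply, i6, hconj]
    have hc5 : c (gen3 5) s = s := by
      simp only [hc, MulAut.conj_apply, i5]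
      rw [h5.eq, mul_assoc, gen3_sq, mul_one]
    have e1 : c (gen3 6 * gen3 5 * gen3 6) s = s := by
      simp only [hc, map_mul, MulAut.mul_apply] at hc6 hc5 ⊢
      rw [hc6, map_pow, hc5, ← hc6, ← MulAut.mul_apply, ← map_mul, gen3_sq, map_one,
        MulAut.one_apply]
    rw [hb] at e1
    simp only [hc, map_mul, MulAut.mul_apply] at hc6 hc5 e1
    rw [hc5, hc6, map_pow, hc5, ← hconj] at e1
    exact (mul_inv_eq_iff_eq_mul.mp (by rw [i6]; exact e1))
  have hall : ∀ k < 10, Commute (gen3 k) s := by
    intro k hk
    by_cases h6 : k = 6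
    · rw [h6]; exact hσ
    by_cases h9 : k = 9
    · subst h9
      rw [hsW]
      refine (commute_word fun g hg => ?_)
      have hlab : ∀ g ∈ M23.wordS, g < 10 ∧ M23.lab 9 g = 2 := by decide +kernel
      have h := gen3_pair (show 9 < 10 by norm_num) (hlab g hg).1
      rw [(hlab g hg).2] at h
      exact commute_of_sq (gen3_sq _) (gen3_sq _) h
    · obtain ⟨g, hg, rfl⟩ := (by decide +kernel : ∀ k < 10, k ≠ 6 → k ≠ 9 → ∃ g < 8, sub8 g = k) k hk h6 h9
      exact hcomm8 g hg
  rw [hsW] at hall ⊢
  refine spider_eq_one π hπ ?_ ?_ hall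
  · rw [← hsW]; exact hιs
  · rw [← hsW, hs, ← map_pow, pow_succ, pow_two, cube_ok, map_one]
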