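import Cfsg.Agent.Lib.Fi24Spider.CheckAStep0
import Cfsg.Agent.Lib.Fi24Spider.CheckAStep1
import Cfsg.Agent.Lib.Fi24Spider.CheckAStep2
import Cfsg.Agent.Lib.Fi24Spider.CheckAStep3
import Cfsg.Agent.Lib.Fi24Spider.CheckAStep4
import Cfsg.Agent.Lib.Fi24Spider.CheckAStep5
import Cfsg.Agent.Lib.Fi24Spider.CheckAStep6
import Cfsg.Agent.Lib.Fi24Spider.CheckAStep7
import Cfsg.Agent.Lib.Fi24Spider.CheckAStep8
import Cfsg.Agent.Lib.CosetEnum.Use
import Cfsg.Agent.Lib.CosetEnum.Blocks
import Cfsg.Agent.Lib.CosetEnum.Merge
import Cfsg.Agent.Lib.Fi24Spider.DataA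

/-!
Kernel checks of coset enumeration data.
-/

set_option autoImplicit false

namespace CfsgLib.Fi24Spider
open CfsgLib.CosetEnum

theorem certA_head : certA.headOK = true := by decide +kernel

theorem certA_entryBlock0 : allUp certA.entryOK' 12 (0 * 2 ^ 12) = true := by decide +kernel

theorem certA_entryBlock1 : allUp certA.entryOK' 12 (1 * 2 ^ 12) = true := by decide +kernel

theorem certA_entryBlock2 : allUp certA.entryOK' 12 (2 * 2 ^ 12) = true := by decide +kernel

theorem certA_entryBlock3 : allUp certA.entryOK' 12 (3 * 2 ^ 12) = true := by decide +kernel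

theorem certA_entry : allUp certA.entryOK' 14 0 = true :=
  allUp_merge (allUp_merge certA_entryBlock0 certA_entryBlock1) (allUp_merge certA_entryBlock2 certA_entryBlock3)

theorem certA_actBlock0 : allUp certA.actOK' 11 (0 * 2 ^ 11) = true := by decide +kernel

theorem certA_actBlock1 : allUp certA.actOK' 11 (1 * 2 ^ 11) = true := by decide +kernel

theorem certA_actBlock2 : allUp certA.actOK' 11 (2 * 2 ^ 11) = true := by decide +kernel

theorem certA_actBlock3 : allUp certA.actOK' 11 (3 * 2 ^ 11) = true := by decide +kernel

theorem certA_actBlock4 : allUp certA.actOK' 11 (4 * 2 ^ 11) = true := by decide +kernel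

theorem certA_actBlock5 : allUp certA.actOK' 11 (5 * 2 ^ 11) = true := by decide +kernel

theorem certA_actBlock6 : allUp certA.actOK' 11 (6 * 2 ^ 11) = true := by decide +kernel

theorem certA_actBlock7 : allUp certA.actOK' 11 (7 * 2 ^ 11) = true := by decide +kernel

theorem certA_ndImgBlock0 : allUp certA.ndImgOK' 11 (0 * 2 ^ 11) = true := by decide +kernel

theorem certA_ndImgBlock1 : allUp certA.ndImgOK' 11 (1 * 2 ^ 11) = true := by decide +kernel

theorem certA_ndImgBlock2 : allUp certA.ndImgOK' 11 (2 * 2 ^ 11) = true := by decide +kernel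

theorem certA_ndImgBlock3 : allUp certA.ndImgOK' 11 (3 * 2 ^ 11) = true := by decide +kernel

theorem certA_ndImgBlock4 : allUp certA.ndImgOK' 11 (4 * 2 ^ 11) = true := by decide +kernel

theorem certA_ndImgBlock5 : allUp certA.ndImgOK' 11 (5 * 2 ^ 11) = true := by decide +kernel

theorem certA_ndImgBlock6 : allUp certA.ndImgOK' 11 (6 * 2 ^ 11) = true := by decide +kernel

theorem certA_ndImgBlock7 : allUp certA.ndImgOK' 11 (7 * 2 ^ 11) = true := by decide +kernel

theorem certA_imgBlock0 : allUp certA.imgOK' 11 (0 * 2 ^ 11) = true := by decide +kernel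

theorem certA_imgBlock1 : allUp certA.imgOK' 11 (1 * 2 ^ 11) = true := by decide +kernel

theorem certA_imgBlock2 : allUp certA.imgOK' 11 (2 * 2 ^ 11) = true := by decide +kernel

theorem certA_imgBlock3 : allUp certA.imgOK' 11 (3 * 2 ^ 11) = true := by decide +kernel

theorem certA_imgBlock4 : allUp certA.imgOK' 11 (4 * 2 ^ 11) = true := by decide +kernel

theorem certA_imgBlock5 : allUp certA.imgOK' 11 (5 * 2 ^ 11) = true := by decide +kernel

theorem certA_imgBlock6 : allUp certA.imgOK' 11 (6 * 2 ^ 11) = true := by decide +kernel

theorem certA_imgBlock7 : allUp certA.imgOK' 11 (7 * 2 ^ 11) = true := by decide +kernel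

theorem certA_imgBlock8 : allUp certA.imgOK' 11 (8 * 2 ^ 11) = true := by decide +kernel

theorem certA_imgBlock9 : allUp certA.imgOK' 11 (9 * 2 ^ 11) = true := by decide +kernel

theorem certA_imgBlock10 : allUp certA.imgOK' 11 (10 * 2 ^ 11) = true := by decide +kernel

theorem certA_imgBlock11 : allUp certA.imgOK' 11 (11 * 2 ^ 11) = true := by decide +kernel

theorem certA_imgBlock12 : allUp certA.imgOK' 11 (12 * 2 ^ 11) = true := by decide +kernel

theorem certA_imgBlock13 : allUp certA.imgOK' 11 (13 * 2 ^ 11) = true := by decide +kernel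

theorem certA_imgBlock14 : allUp certA.imgOK' 11 (14 * 2 ^ 11) = true := by decide +kernel

theorem certA_imgBlock15 : allUp certA.imgOK' 11 (15 * 2 ^ 11) = true := by decide +kernel

theorem certA_complete : certA.Complete :=
  Cert.complete_of_blocks _ (k := 13) (n := 9) (k₂ := 14) certA_head
    (fun j hj => by
      match j, hj with
      | 0, _ => exact certA_step0
      | 1, _ => exact certA_step1
      | 2, _ => exact certA_step2
      | 3, _ => exact certA_step3
      | 4, _ => exact certA_step4
      | 5, _ => exact certA_step5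
      | 6, _ => exact certA_step6
      | 7, _ => exact certA_step7
      | 8, _ => exact certA_step8
      | n + 9, h => omega)
    (by decide +kernel) certA_entry (by decide +kernel)

theorem certA_action : certA.IsAction :=
  Cert.isAction_of_blocks _ (k₁ := 11) (n₁ := 16) (k₂ := 11) (n₂ := 8) (by decide +kernel) (by decide +kernel)
    (fun j hj => by
      match j, hj with
      | 0, _ => exact certA_actBlock0
      | 1, _ => exact certA_actBlock1
      | 2, _ => exact certA_actBlock2
      | 3, _ => exact certA_actBlock3
      | 4, _ => exact certA_actBlock4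
      | 5, _ => exact certA_actBlock5
      | 6, _ => exact certA_actBlock6
      | 7, _ => exact certA_actBlock7
      | n + 8, h => omega)
    (fun j hj => by
      match j, hj with
      | 0, _ => exact certA_ndImgBlock0
      | 1, _ => exact certA_ndImgBlock1
      | 2, _ => exact certA_ndImgBlock2
      | 3, _ => exact certA_ndImgBlock3
      | 4, _ => exact certA_ndImgBlock4
      | 5, _ => exact certA_ndImgBlock5
      | 6, _ => exact certA_ndImgBlock6
      | 7, _ => exact certA_ndImgBlock7
      | n + 8, h => omega)
    (by decide +kernel)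
    (fun j hj => by
      match j, hj with
      | 0, _ => exact certA_imgBlock0
      | 1, _ => exact certA_imgBlock1
      | 2, _ => exact certA_imgBlock2
      | 3, _ => exact certA_imgBlock3
      | 4, _ => exact certA_imgBlock4
      | 5, _ => exact certA_imgBlock5
      | 6, _ => exact certA_imgBlock6
      | 7, _ => exact certA_imgBlock7
      | 8, _ => exact certA_imgBlock8
      | 9, _ => exact certA_imgBlock9
      | 10, _ => exact certA_imgBlock10
      | 11, _ => exact certA_imgBlock11
      | 12, _ => exact certA_imgBlock12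
      | 13, _ => exact certA_imgBlock13
      | 14, _ => exact certA_imgBlock14
      | 15, _ => exact certA_imgBlock15
      | n + 16, h => omega)
    (by decide +kernel)

end CfsgLib.Fi24Spider
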