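import Cfsg.Agent.Lib.CosetEnum.Basic

/-!
Coset enumeration data: 5 cosets, 5 nodes, 16 facts.
-/

set_option autoImplicit false
set_option linter.style.longLine false

namespace CfsgLib.Fi24Spider
open CfsgLib.CosetEnum

/-- the certificate -/
def certS4 : Cert where
  K := 4
  invs := [0, 1, 2, 3]
  rels := [[0, 0],
    [0, 1, 0, 1, 0, 1],
    [0, 2, 0, 2],
    [0, 3, 0, 3],
    [1, 1],
    [1, 2, 1, 2, 1, 2],
    [1, 3, 1, 3],
    [2, 2],
    [2, 3, 2, 3, 2, 3],
    [3, 3]]
  subs := [[0],
    [1],
    [2]]
  N := 5
  M := 5
  F := 16
  defs := (.leaf 0x600000041000002200000030000000)
  facts := (.leaf 0x2800000380200200c0000204000040001800000320100201c000020c0000400018000002c0100201400002080000400000000002c000000000000200000030002800000220200202c00001880000300018000001c01002034000018c0000300000000001c0000000000001840000200028000001202002044000010c0000200018000000c0100401400001000000200000000000c00000000000010800001000180000006010040340000084000010001800000000100401c00000800000100000000000000000000000008c00000000000000000000000160000008000000000000000000000000e00000040000000000000000000000006000000000000)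
  refs := (.leaf 0x1800001200000e00001300001900001800001400001900001800001600001900001200000c00000a00000d00001300001200001000001300000c00000600000400000700000d00000c00000800000d000006000002000007000006000000000007)
  tab := (.leaf 0x400004000040000300003000030000200004000020000100003000020000000002000010000100001000000000000000)
  nd := (.leaf 0x4000003000002000001000000)
  edge := (.leaf 0x1d00001b00001f00001900001500001700001300001800001100000d00001200000f00000700000c00000b000009000006000005000003000001)
  img := (.leaf 0x400003000020000100000)

end CfsgLib.Fi24Spider
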