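import Cfsg.Agent.Lib.CosetEnum.Basic

/-!
Coset enumeration data: 7 cosets, 7 nodes, 36 facts.
-/

set_option autoImplicit false
set_option linter.style.longLine false

namespace CfsgLib.Fi24Spider
open CfsgLib.CosetEnum

/-- the certificate -/
def certS6 : Cert where
  K := 6
  invs := [0, 1, 2, 3, 4, 5]
  rels := [[0, 0],
    [0, 1, 0, 1, 0, 1],
    [0, 2, 0, 2],
    [0, 3, 0, 3],
    [0, 4, 0, 4],
    [0, 5, 0, 5],
    [1, 1],
    [1, 2, 1, 2, 1, 2],
    [1, 3, 1, 3],
    [1, 4, 1, 4],
    [1, 5, 1, 5],
    [2, 2],
    [2, 3, 2, 3, 2, 3],
    [2, 4, 2, 4],
    [2, 5, 2, 5],
    [3, 3],
    [3, 4, 3, 4, 3, 4],
    [3, 5, 3, 5],
    [4, 4],
    [4, 5, 4, 5, 4, 5],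
    [5, 5]]
  subs := [[0],
    [1],
    [2],
    [3],
    [4]]
  N := 7
  M := 7
  F := 36
  defs := (.leaf 0xa0000008100000620000043000002400000050000000)
  facts := (.leaf 0x2800000a00200200c00003040000600018000009a0100202c0000314000060001800000940100202400003100000600018000008e0100201c000030c00006000180000088010020140000308000060000000000880000000000003000000500028000007e0200203c000028800005000180000078010020540000294000050001800000720100204c00002900000500018000006c01002044000028c0000500000000006c0000000000002840000400028000006202002064000020c0000400018000005c010020740000214000040001800000560100206c0000210000040001800000500100401400002000000400000000005000000000000020800003000280000046020020840000190000030001800000400100208c00001940000300018000003a010040440000184000030001800000340100401c00001800000300000000003400000000000018c0000200028000002a0200209c0000114000020001800000240100406c00001080000200018000001e0100404c00001040000200018000001801004024000010000002000000000018000000000000110000010001800000120100408c000008c0000100018000000c01004074000008800001000180000006010040540000084000010001800000000100402c00000800000100000000000000000000000009400000000000000000000000260000010000000000000000000000001e000000c00000000000000000000000160000008000000000000000000000000e00000040000000000000000000000006000000000000)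
  refs := (.leaf 0x3c00003200002a00003300003d00003c00003800003d00003c00003600003d00003c00003400003d00003c00003a00003d00003200002800002200002900003300003200002e00003300003200002c00003300003200003000003300002800001e00001a00001f00002900002800002400002900002800002600002900002800002000002900001e00001400001200001500001f00001e00001c00001f00001e00001800001f00001e00001600001f00001400000a00000800000b00001500001400001000001500001400000e00001500001400000c00001500000a00000600000b00000a00000400000b00000a00000200000b00000a00000000000b)
  tab := (.leaf 0x60000600006000060000600005000050000500005000050000400006000040000400004000030000500004000030000300002000040000300003000020000100003000020000200002000000000200001000010000100001000010000000000000000000000000)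
  nd := (.leaf 0x6000005000004000003000002000001000000)
  edge := (.leaf 0x4500004300004100003f00004700003d00003900003700003500003b00003300003c00002f00002d00003100002900003200002b00002500002700001f00002800002300002100001d00001500001e00001b00001900001700000b00001400001300001100000f00000d00000a000009000007000005000003000001)
  img := (.leaf 0x6000050000400003000020000100000)

end CfsgLib.Fi24Spider
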