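import Cfsg.Agent.Lib.CosetEnum.Chain
import Cfsg.Agent.Lib.Fi24Spider.CheckA

/-!
Suborbits.
-/

set_option autoImplicit false
set_option linter.style.longLine false

namespace CfsgLib.Fi24Spider
open CfsgLib.CosetEnum

/-- part 0 of a tree -/
def subTree0Part0 : List (ℕ × ℕ) := [(1, 6), (2, 3), (3, 2), (3, 4), (4, 1), (4, 4), (5, 5), (6, 0), (6, 4), (7, 3), (7, 5), (9, 4), (10, 3), (10, 5), (11, 5), (11, 6), (13, 3), (13, 5), (14, 2), (14, 5), (14, 6), (16, 4), (16, 6), (18, 2), (18, 5), (18, 6), (20, 5), (20, 6), (21, 4), (21, 6), (23, 6), (26, 1), (26, 5), (26, 6), (27, 4), (27, 6), (29, 4), (29, 6), (30, 3), (31, 6), (34, 3), (36, 5), (36, 6), (37, 4), (37, 6), (38, 3), (39, 6), (42, 3), (42, 6), (43, 3), (44, 4), (46, 3), (48, 2), (50, 4), (50, 6), (51, 3), (52, 3), (52, 6), (53, 3), (54, 4), (56, 3), (58, 6), (59, 3), (60, 4), (62, 5), (64, 2), (66, 1), (68, 3), (68, 6), (69, 3), (70, 2), (70, 4), (72, 6), (73, 3), (74, 4), (76, 5), (78, 2), (80, 3), (81, 2), (81, 4), (83, 5), (88, 1), (90,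 0), (93, 2), (93, 6), (94, 3), (95, 2), (95, 4), (97, 4), (98, 5), (100, 3), (101, 2), (101, 4), (103, 5), (108, 1), (110, 2), (110, 4), (112, 1), (112, 4), (113, 5)]

/-- part 1 of a tree -/
def subTree0Part1 : List (ℕ × ℕ) := [(120, 0), (126, 6), (127, 3), (128, 2), (128, 4), (130, 4), (131, 5), (133, 3), (133, 5), (138, 2), (138, 4), (140, 1), (140, 4), (141, 5), (148, 0), (151, 1), (151, 4), (152, 5), (154, 0), (154, 4), (155, 5), (170, 3), (171, 2), (171, 4), (173, 1), (173, 4), (174, 5), (176, 3), (176, 5), (181, 5), (181, 6), (187, 1), (187, 4), (188, 5), (190, 0), (190, 4), (191, 5), (203, 0), (203, 4), (204, 3), (204, 5), (209, 4), (210, 5), (227, 2), (227, 4), (229, 1), (229, 4), (230, 5), (232, 0), (232, 4), (233, 3), (233, 5), (238, 5), (238, 6), (244, 4), (244, 6), (252, 0), (252, 4), (253, 3), (253, 5), (258, 4), (259, 5), (273, 4), (274, 3), (274, 5), (276, 5), (282, 5), (304, 1), (304, 4), (305, 5), (307, 0), (307, 4), (308, 3), (308, 5), (313, 4), (314, 3), (314, 5), (316, 5), (316,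 6), (322, 4), (322, 6), (330, 6), (335, 4), (336, 3), (336, 5), (338, 5), (344, 5), (361, 3), (361, 5), (363, 2), (363, 5), (367, 4), (398, 0), (398, 4), (399, 3), (399, 5), (404, 4), (405, 3), (405, 5), (407, 5)]

/-- part 2 of a tree -/
def subTree0Part2 : List (ℕ × ℕ) := [(407, 6), (413, 3), (413, 5), (415, 5), (415, 6), (419, 4), (419, 6), (427, 6), (437, 3), (440, 3), (440, 5), (442, 2), (442, 5), (446, 4), (472, 2), (472, 5), (476, 5), (477, 4), (518, 4), (519, 3), (519, 5), (521, 5), (521, 6), (527, 3), (527, 5), (529, 2), (529, 5), (529, 6), (533, 4), (533, 6), (541, 5), (541, 6), (545, 4), (545, 6), (551, 6), (561, 3), (573, 2), (574, 2), (574, 5), (578, 5), (579, 4), (614, 1), (614, 5), (615, 4), (620, 4), (671, 3), (671, 5), (673, 2), (673, 5), (673, 6), (677, 4), (677, 6), (685, 2), (685, 5), (685, 6), (689, 5), (689, 6), (690, 4), (690, 6), (696, 6), (706, 4), (706, 6), (712, 6), (721, 3), (734, 2), (748, 1), (749, 1), (749, 5), (750, 4), (755, 4), (800, 5), (801, 4), (810, 3), (873,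 2), (873, 5), (873, 6), (878, 4), (884, 6), (894, 5), (895, 4), (895, 6), (913, 3), (926, 6), (935, 3), (946, 2), (962, 1), (976, 0)]

/-- a tree -/
def subTree0 : List (ℕ × ℕ) :=
  [subTree0Part0, subTree0Part1, subTree0Part2].flatten


/-- suborbit 0, of length 288 -/
def subMask0 : ℕ := 0x2002000010002002000200001a00101070000000000000000000800a0000000000000817000400040080c0020361c030e600000000000000040b00000000002870004002030c030e606680000000000050c00000010ce0020186606686c000000004330000204d201819a1b2c00000409a00050d8c0c365b00001436002cb030cb6800165902d8656c102d90b4adc90b52b6e52b57755d7d5df5fdfffffe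

theorem subMask0_closed : allUp (maskClosed certA subMask0) 14 0 = true := by
  decide +kernel

theorem subMask0_tree :
    (reach certA certA.subs subTree0 (2 ^ 1) == some subMask0) = true := by decide +kernel

theorem subMask0_orbit : Suborbit certA 1 subMask0 :=
  ⟨⟨by decide +kernel, by decide +kernel⟩,
    fun x hx => allUp_spec subMask0_closed x (Nat.zero_le _)
      (by have : certA.N = 9477 := rfl; omega),
    _, beq_iff_eq.mp subMask0_tree⟩

theorem subMask0_size : popc subMask0 9477 = 288 := by decide +kernel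

end CfsgLib.Fi24Spider
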