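import Cfsg.Agent.Lib.CosetEnum.BasePow
import Cfsg.Agent.Lib.CosetEnum.OutThree
import Cfsg.Agent.Lib.Fi24Spider.CheckA
import Cfsg.Agent.Lib.Fi24Spider.CheckC
import Cfsg.Agent.Lib.Fi24Spider.CheckS1
import Cfsg.Agent.Lib.Fi24Spider.CheckS2
import Cfsg.Agent.Lib.Fi24Spider.CheckS3
import Cfsg.Agent.Lib.Fi24Spider.CheckS4
import Cfsg.Agent.Lib.Fi24Spider.CheckS5
import Cfsg.Agent.Lib.Fi24Spider.CheckS6
import Cfsg.Agent.Lib.Fi24Spider.DataChain
import Cfsg.Agent.Lib.Fi24Spider.Orbit

/-!
The Coxeter group on the diagram with arms 3, 2, 2 with the relation `(abcdefh)^9 = 1`: the spider word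
is central, and only its powers commute with the other subgroup of type E7.
-/

set_option autoImplicit false

namespace CfsgLib.Fi24Spider

open CfsgLib.CosetEnum Cfsg.Spor

/-- the letters -/
inductive Gen
  | a | b | c | d | e | f | h | i
  deriving DecidableEq

/-- the diagram -/
def edges : List (Gen × ℕ × Gen) :=
  [(.a, 3, .b), (.b, 3, .c), (.c, 3, .d), (.d, 3, .e), (.d, 3, .h), (.e, 3, .f), (.h, 3, .i)]

/-- the further relator -/
def extra : List (FreeGroup Gen) :=
  [(FreeGroup.of Gen.a * FreeGroup.of Gen.b * FreeGroup.of Gen.c * FreeGroup.of Gen.d *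
    FreeGroup.of Gen.e * FreeGroup.of Gen.f * FreeGroup.of Gen.h) ^ 9]

/-- the presented group -/
abbrev W3 : Type := CoxPresented Gen edges extra

/-- the letters in order -/
def letters : List Gen := [.a, .b, .c, .d, .e, .f, .h, .i]

/-- the further relator as a word -/
def extraW : List (List ℕ) := [powWord [0, 1, 2, 3, 4, 5, 6] 9]

theorem extraWords : ExtraWords letters extra extraW := by
  unfold ExtraWords extra extraW
  refine .cons ?_ .nil
  intro P _ f _
  rw [map_pow, prodW_powWord]
  simp [prodW, genOf, letters, mul_assoc]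

theorem mem_letters : ∀ x, x ∈ letters := by intro x; cases x <;> decide

theorem nodes : ∀ x, x ∈ coxNodes edges := by intro x; cases x <;> decide

/-- the numbered generators -/
def gen : ℕ → W3 := presGen letters edges extra

theorem gen_sq (g : ℕ) : gen g * gen g = 1 := by
  unfold gen presGen genOf
  split
  · exact of_sq (nodes _)
  · simp

theorem presA : presOK letters edges extraW certA = true := by decide +kernel

/-- the subgroup of index 9477 -/
def subA : Subgroup W3 := Subgroup.closure {y | ∃ w ∈ certA.subs, prodW gen w = y}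

theorem modelA : Model certA subA gen :=
  presModel nodes extraWords presA _ fun w hw => Subgroup.subset_closure ⟨w, hw, rfl⟩

theorem exists_action : ∃ ρ : W3 →* Equiv.Perm (Fin certA.N),
    ∀ g < certA.K, ρ (gen g) = letterPerm certA_complete certA_action g :=
  exists_presAction mem_letters (by decide) extraWords presA certA_complete certA_action

/-- the action on the cosets -/
noncomputable def rho : W3 →* Equiv.Perm (Fin certA.N) := exists_action.choose

theorem setupA : Setup certA subA gen rho where
  complete := certA_complete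
  action := certA_action
  model := modelA
  gen_top := presGen_top mem_letters rfl
  rho_gen := exists_action.choose_spec
  H_eq := rfl

theorem blockS1 : blockOK certS1 certA.rels 0 1 = true := by decide +kernel
theorem blockS2 : blockOK certS2 certA.rels 0 2 = true := by decide +kernel
theorem blockS3 : blockOK certS3 certA.rels 0 3 = true := by decide +kernel
theorem blockS4 : blockOK certS4 certA.rels 0 4 = true := by decide +kernel
theorem blockS5 : blockOK certS5 certA.rels 0 5 = true := by decide +kernel
theorem blockS6 : blockOK certS6 certA.rels 0 6 = true := by decide +kernel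
theorem blockC : blockOK certC certA.rels 0 7 = true := by decide +kernel

theorem subA_card : Finite subA ∧ Nat.card subA ≤ 1451520 := by
  have hr : ∀ r ∈ certA.rels, prodW gen r = 1 := modelA.rel
  have h1 := block_card_le gen_sq hr certS1_complete blockS1 (subs_closure_bot rfl)
  have h2 := block_step gen_sq hr certS2_complete blockS2 (d := 0) (k := 1) (by decide +kernel)
    (by norm_num) h1
  have h3 := block_step gen_sq hr certS3_complete blockS3 (d := 0) (k := 2) (by decide +kernel)
    (by norm_num) h2
  have h4 := block_step gen_sq hr certS4_complete blockS4 (d := 0) (k := 3) (by decide +kernel)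
    (by norm_num) h3
  have h5 := block_step gen_sq hr certS5_complete blockS5 (d := 0) (k := 4) (by decide +kernel)
    (by norm_num) h4
  have h6 := block_step gen_sq hr certS6_complete blockS6 (d := 0) (k := 5) (by decide +kernel)
    (by norm_num) h5
  have hC := block_step gen_sq hr certC_complete blockC (d := 0) (k := 6) (by decide +kernel)
    (by norm_num) h6
  rw [genSub_blockGen_zero] at hC
  rw [show subA = genSub gen 7 from subs_closure_genSub (by decide +kernel)]
  exact hC

theorem finite_and_card : Finite W3 ∧ Nat.card W3 ≤ 13756055040 := by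
  haveI := subA_card.1
  have h := finite_card_le certA_complete modelA _ subA_card.2
  rw [setupA.gen_top] at h
  exact ⟨haveI := h.1; Finite.of_equiv _ Subgroup.topEquiv.toEquiv,
    by rw [← Nat.card_congr Subgroup.topEquiv.toEquiv]; exact h.2⟩

instance : Finite W3 := finite_and_card.1

theorem chain_ok : chainOK certA levels = true := by decide +kernel

theorem chain_size : chainSize certA levels = 13756055040 := by decide +kernel

theorem size_eq : chainSize certA levels = Nat.card W3 :=
  chain_size.trans (setupA.card_eq finite_and_card.2 chain_ok chain_size).1.symm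

/-- the spider word -/
def spiderW : List ℕ := powWord [3, 2, 1, 3, 4, 5, 3, 6, 7] 10

/-- the spider element -/
def spider : W3 := prodW gen spiderW

/-- the exchange of the two short arms -/
def swapL (g : ℕ) : ℕ := [0, 1, 2, 3, 6, 7, 4, 5].getD g g

/-- the words compared -/
noncomputable def wordsOK : Bool :=
  (List.range 8).all fun g => sameBases certA levels (g :: spiderW) (spiderW ++ [g])

theorem words_ok : wordsOK = true := by decide +kernel

theorem swap_ok : (sameBases certA levels (powWord [0, 1, 2, 3, 6, 7, 4] 9) [] &&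
    sameBases certA levels (spiderW.map swapL) (spiderW ++ spiderW) &&
    spiderW.all (fun g => Nat.blt g 8)) = true := by decide +kernel

theorem spider_lt : ∀ g ∈ spiderW, g < certA.K := by
  have h := swap_ok
  simp only [Bool.and_eq_true, List.all_eq_true, Nat.blt_eq] at h
  exact h.2

theorem spider_comm (g : ℕ) : gen g * spider = spider * gen g := by
  by_cases hg : g < 8
  · have h := words_ok
    simp only [wordsOK, List.all_eq_true, List.mem_range] at h
    have hk : certA.K = 8 := rfl
    have e := setupA.eq_of_bases chain_ok size_eq (u := g :: spiderW) (w := spiderW ++ [g])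
      (fun x hx => (List.mem_cons.mp hx).elim (fun e => by omega) (spider_lt x))
      (fun x hx => (List.mem_append.mp hx).elim (spider_lt x)
        fun e => by rw [List.mem_singleton] at e; omega) (h g hg)
    rwa [prodW_cons, prodW_append, prodW_cons, prodW_nil, mul_one] at e
  · rw [show gen g = 1 from genOf_of_ge (l := letters) (by simp [letters]; omega)]
    simp

theorem spider_central : ∀ x : W3, x * spider = spider * x := by
  intro x
  have hx : x ∈ Subgroup.closure {y | ∃ g < certA.K, gen g = y} := by rw [setupA.gen_top]; trivial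
  induction hx using Subgroup.closure_induction with
  | mem y hy => obtain ⟨g, -, rfl⟩ := hy; exact spider_comm g
  | one => simp
  | mul a b _ _ ha hb => rw [mul_assoc, hb, ← mul_assoc, ha, mul_assoc]
  | inv a _ ha =>
    calc a⁻¹ * spider = a⁻¹ * (spider * a) * a⁻¹ := by group
      _ = a⁻¹ * (a * spider) * a⁻¹ := by rw [ha]
      _ = spider * a⁻¹ := by group

/-- three words fixing coset 1, with nothing else fixed in its suborbit -/
def fixWords : List (List ℕ) :=
  [[6, 3, 2, 1, 0, 4, 3, 2, 1, 5, 4, 3, 4, 3, 4, 5, 1, 2, 3, 4, 0, 1, 2, 3, 6],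
    [6, 3, 2, 1, 0, 4, 3, 2, 6, 3, 4, 3, 4, 3, 6, 2, 3, 4, 0, 1, 2, 3, 6],
    [6, 3, 2, 1, 0, 4, 3, 2, 1, 5, 4, 3, 6, 3, 2, 1, 4, 3, 2, 6, 0, 4, 5, 3, 4, 1, 2, 3, 6, 2, 3, 4,
      5, 1, 2, 3, 4, 0, 1, 2, 3, 6]]

/-- the test of one coset for the two fixed-point facts -/
noncomputable def fixTest (y : ℕ) : Bool :=
  (!(Cert.allBelow 7 fun g => Nat.beq (certA.T y g) y) ||
    (Nat.beq y 0 || Nat.beq y (certA.run 0 (certA.revInv spiderW)) ||
      Nat.beq y (certA.run 0 (certA.revInv (spiderW ++ spiderW))))) &&
  (!(Nat.testBit subMask0 y && fixWords.all fun w => Nat.beq (certA.run y (certA.revInv w)) y) ||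
    Nat.beq y 1)

theorem fix_test : allUp (fun y => !(Nat.blt y 9477) || fixTest y) 14 0 = true := by decide +kernel

theorem fix_facts : (fixWords.all (fun w => Nat.beq (certA.run 1 (certA.revInv w)) 1 &&
    w.all fun g => Nat.blt g 7) &&
    (levels.all fun l => Nat.blt l.base 9477 && (Nat.beq l.base 0 || Nat.testBit subMask0 l.base))) = true := by
  decide +kernel

theorem seven_mem {g : ℕ} (hg : g < 7) : gen g ∈ subA :=
  Subgroup.subset_closure ⟨[g], by
    have h : ∀ g < 7, [g] ∈ certA.subs := by decide +kernel
    exact h g hg, by simp⟩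

theorem prodW_comm {x : W3} (hx : ∀ g < 7, gen g * x = x * gen g) {w : List ℕ}
    (hw : ∀ g ∈ w, g < 7) : prodW gen w * x = x * prodW gen w := by
  induction w with
  | nil => simp
  | cons g w ih =>
    rw [List.forall_mem_cons] at hw
    rw [prodW_cons, mul_assoc, ih hw.2, ← mul_assoc, hx g hw.1, mul_assoc]

/-- Only powers of the spider commute with the seven letters of E7. -/
theorem comm_seven {x : W3} (hx : ∀ g < 7, gen g * x = x * gen g) :
    ∃ m : ℕ, x = spider ^ m := by
  have hN : certA.N = 9477 := rfl
  have htest : ∀ y : Fin certA.N, fixTest y = true := fun y => by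
    have h := allUp_spec fix_test y (Nat.zero_le _) (by have := y.2; omega)
    simpa [show Nat.blt (y : ℕ) 9477 = true from Nat.blt_eq.mpr (by have := y.2; omega)] using h
  have hT : ∀ (y : Fin certA.N) (g : ℕ), g < 7 → (rho (gen g) y : ℕ) = certA.T y g := by
    intro y g hg
    have h := setupA.rho_prodW (w := [g]) (fun z hz => by
      rw [List.mem_singleton] at hz
      have hk : certA.K = 8 := rfl
      omega) y
    rw [prodW_cons, prodW_nil, mul_one] at h
    rw [h]
    have hi : certA.inv g = g := by
      have : ∀ g < 7, certA.inv g = g := by decide +kernel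
      exact this g hg
    simp [Cert.revInv, hi, Cert.run_cons, Cert.run_nil]
  -- the image of coset 0
  have hy : ∀ g < 7, rho (gen g) (rho x setupA.base) = rho x setupA.base := fun g hg => by
    rw [← Equiv.Perm.mul_apply, ← map_mul, hx g hg, map_mul, Equiv.Perm.mul_apply,
      setupA.rho_fix (seven_mem hg)]
  have hfix : Cert.allBelow 7 (fun g => Nat.beq (certA.T (rho x setupA.base : ℕ) g)
      (rho x setupA.base : ℕ)) = true := by
    have key : ∀ n ≤ 7, Cert.allBelow n (fun g => Nat.beq (certA.T (rho x setupA.base : ℕ) g)
        (rho x setupA.base : ℕ)) = true := by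
      intro n hn
      induction n with
      | zero => rfl
      | succ n ih =>
        change band _ _ = true
        rw [band_eq_true]
        refine ⟨ih (by omega), ?_⟩
        show Nat.beq (certA.T (rho x setupA.base : ℕ) n) (rho x setupA.base : ℕ) = true
        rw [← hT _ _ (show n < 7 by omega), hy n (by omega)]
        exact Nat.beq_refl _
    exact key 7 le_rfl
  have h0 := htest (rho x setupA.base)
  simp only [fixTest, hfix, Bool.not_true, Bool.false_or, Bool.and_eq_true, Bool.or_eq_true] at h0
  obtain ⟨m, hm⟩ : ∃ m : ℕ, rho x setupA.base = rho (spider ^ m) setupA.base := by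
    rcases h0.1 with (h | h) | h
    · exact ⟨0, Fin.ext (by rw [Nat.eq_of_beq_eq_true h]; simp [Setup.base])⟩
    · refine ⟨1, Fin.ext ?_⟩
      rw [Nat.eq_of_beq_eq_true h, pow_one, spider, setupA.rho_prodW spider_lt]
      rfl
    · refine ⟨2, Fin.ext ?_⟩
      rw [Nat.eq_of_beq_eq_true h, pow_two, spider, ← prodW_append, setupA.rho_prodW (fun g hg =>
        (List.mem_append.mp hg).elim (spider_lt g) (spider_lt g))]
      rfl
  refine ⟨m, ?_⟩
  set z := (spider ^ m)⁻¹ * x with hz
  have hzc : ∀ g < 7, gen g * z = z * gen g := fun g hg => by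
    have hc : Commute (gen g) ((spider ^ m)⁻¹) := ((show Commute (gen g) spider from spider_comm g).pow_right m).inv_right
    exact (hc.mul_right (hx g hg)).eq
  have hz0 : rho z setupA.base = setupA.base := by
    rw [hz, map_mul, Equiv.Perm.mul_apply, hm, ← Equiv.Perm.mul_apply, ← map_mul, inv_mul_cancel]
    simp
  have hzH : z ∈ subA := (setupA.mem_iff z).mpr hz0
  obtain ⟨hw1, hlev⟩ : (∀ w ∈ fixWords, Nat.beq (certA.run 1 (certA.revInv w)) 1 = true ∧ ∀ g ∈ w, g < 7) ∧
      ∀ l ∈ levels, l.base < 9477 ∧ (l.base = 0 ∨ subMask0.testBit l.base = true) := by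
    have h := fix_facts
    simp only [Bool.and_eq_true, List.all_eq_true, Nat.blt_eq, Bool.or_eq_true] at h
    exact ⟨h.1, fun l hl => ⟨(h.2 l hl).1, (h.2 l hl).2.imp Nat.eq_of_beq_eq_true id⟩⟩
  let p1 : Fin certA.N := ⟨1, subMask0_orbit.mem.1⟩
  have hz1 : rho z p1 = p1 := by
    have hbit : subMask0.testBit (rho z p1 : ℕ) = true := by
      rw [setupA.orbit_sub subMask0_orbit hzH]; exact subMask0_orbit.mem.2
    have hall : (fixWords.all fun w =>
        Nat.beq (certA.run (rho z p1 : ℕ) (certA.revInv w)) (rho z p1 : ℕ)) = true := by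
      rw [List.all_eq_true]
      intro w hw
      obtain ⟨e, hlt⟩ := hw1 w hw
      have hk : certA.K = 8 := rfl
      have hlt' : ∀ g ∈ w, g < certA.K := fun g hg => by have := hlt g hg; omega
      rw [← setupA.rho_prodW hlt', ← Equiv.Perm.mul_apply, ← map_mul, prodW_comm hzc hlt, map_mul,
        Equiv.Perm.mul_apply]
      have : rho (prodW gen w) p1 = p1 := Fin.ext (by
        rw [setupA.rho_prodW hlt']; exact Nat.eq_of_beq_eq_true e)
      rw [this]
      exact Nat.beq_refl _
    have h := htest (rho z p1)
    simp only [fixTest, Bool.and_eq_true, hbit, hall, Bool.and_self, Bool.not_true, Bool.false_or] at h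
    exact Fin.ext (Nat.eq_of_beq_eq_true h.2)
  have hsub : ∀ h ∈ subA, h * z = z * h := by
    intro h hh
    induction hh using Subgroup.closure_induction with
    | mem y hy =>
      obtain ⟨w, hw, rfl⟩ := hy
      exact prodW_comm hzc (by
        have : ∀ w ∈ certA.subs, ∀ g ∈ w, g < 7 := by decide +kernel
        exact this w hw)
    | one => simp
    | mul a b _ _ ha hb => rw [mul_assoc, hb, ← mul_assoc, ha, mul_assoc]
    | inv a _ ha =>
      calc a⁻¹ * z = a⁻¹ * (z * a) * a⁻¹ := by group
        _ = a⁻¹ * (a * z) * a⁻¹ := by rw [ha]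
        _ = z * a⁻¹ := by group
  have hz_one : z = 1 := by
    apply setupA.base_injective chain_ok size_eq
    simp only [baseImages, chainBases, List.map_map, map_one]
    refine List.map_congr_left fun l hl => ?_
    simp only [Function.comp_apply]
    split
    · next hb =>
      simp only [Option.map_some, Option.some.injEq, Equiv.Perm.one_apply]
      rcases (hlev l hl).2 with h | h
      · rw [show (⟨l.base, hb⟩ : Fin certA.N) = setupA.base from Fin.ext h, hz0]
      · obtain ⟨u, hu, e⟩ := (setupA.orbit_mem_iff subMask0_orbit ⟨l.base, hb⟩).mpr h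
        rw [← e, ← Equiv.Perm.mul_apply, ← map_mul, ← hsub u hu, map_mul, Equiv.Perm.mul_apply]
        exact congrArg (rho u) hz1
    · rfl
  calc x = spider ^ m * z := by rw [hz, mul_inv_cancel_left]
    _ = spider ^ m := by rw [hz_one, mul_one]

/-- the images of the letters under the exchange -/
def swapFun (x : Gen) : W3 := gen (swapL (letters.idxOf x))

theorem swapL_lt : ∀ g < 8, swapL g < 8 ∧ swapL (swapL g) = g := by decide +kernel

theorem gen_of (x : Gen) : gen (letters.idxOf x) = PresentedGroup.of x := by
  have h : letters.idxOf x < letters.length := List.idxOf_lt_length_iff.mpr (mem_letters x)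
  rw [gen, presGen, genOf_of_lt h, List.getElem_idxOf h]

theorem swap_edges : ∀ x y : Gen, coxLabel edges (letters.getD (swapL (letters.idxOf x)) .a)
    (letters.getD (swapL (letters.idxOf y)) .a) = coxLabel edges x y := by
  intro x y; cases x <;> cases y <;> decide +kernel

theorem exists_swap : ∃ σ : W3 →* W3, (∀ g < 8, σ (gen g) = gen (swapL g)) ∧
    σ spider = spider * spider := by
  have hK : certA.K = 8 := rfl
  have hof : ∀ x : Gen, swapFun x = PresentedGroup.of (letters.getD (swapL (letters.idxOf x)) .a) := by
    intro x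
    have h : letters.idxOf x < 8 := List.idxOf_lt_length_iff.mpr (mem_letters x)
    have h2 := (swapL_lt _ h).1
    rw [swapFun, gen, presGen, genOf_of_lt (show swapL (letters.idxOf x) < letters.length from h2),
      List.getD_eq_getElem _ _ (show swapL (letters.idxOf x) < letters.length from h2)]
  have hsq : ∀ x, swapFun x * swapFun x = 1 := fun x => gen_sq _
  have hmap : ∀ w : List ℕ, (∀ g ∈ w, g < 8) →
      prodW (genOf letters swapFun) w = prodW gen (w.map swapL) := by
    intro w hw
    induction w with
    | nil => rfl
    | cons g w ih =>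
      rw [List.forall_mem_cons] at hw
      rw [List.map_cons, prodW_cons, prodW_cons, ih hw.2,
        genOf_of_lt (show g < letters.length from hw.1), swapFun,
        List.Nodup.idxOf_getElem (by decide) g (show g < letters.length from hw.1)]
  have hrel : ∀ r ∈ coxRelators edges ∪ {r | r ∈ extra}, FreeGroup.lift swapFun r = 1 := by
    rintro r (⟨x, -, y, -, rfl⟩ | hr)
    · simp only [map_pow, map_mul, FreeGroup.lift_apply_of, hof]
      rw [← swap_edges x y]
      exact of_pair (nodes _) (nodes _)
    · obtain ⟨k, hk, rfl⟩ := List.getElem_of_mem (Set.mem_ofPred_eq ▸ hr : r ∈ extra)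
      have h2 := (List.forall₂_iff_get.mp extraWords).2 k hk hk
      simp only [List.get_eq_getElem] at h2
      have h1 : k = 0 := by simp [extra] at hk; exact hk
      subst h1
      rw [h2 _ swapFun hsq]
      show prodW (genOf letters swapFun) (powWord [0, 1, 2, 3, 4, 5, 6] 9) = 1
      rw [hmap _ (show ∀ g ∈ powWord [0, 1, 2, 3, 4, 5, 6] 9, g < 8 by decide +kernel)]
      have h := swap_ok
      simp only [Bool.and_eq_true] at h
      refine (setupA.eq_of_bases chain_ok size_eq (u := _) (w := []) ?_ (by simp) ?_).trans (prodW_nil gen)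
      · rw [hK]
        show ∀ g ∈ (powWord [0, 1, 2, 3, 4, 5, 6] 9).map swapL, g < 8
        decide +kernel
      · show sameBases certA levels ((powWord [0, 1, 2, 3, 4, 5, 6] 9).map swapL) [] = true
        rw [show (powWord [0, 1, 2, 3, 4, 5, 6] 9).map swapL = powWord [0, 1, 2, 3, 6, 7, 4] 9 by decide +kernel]
        exact h.1.1
  refine ⟨PresentedGroup.toGroup hrel, fun g hg => ?_, ?_⟩
  · rw [gen, presGen, genOf_of_lt (show g < letters.length from hg)]
    rw [PresentedGroup.toGroup.of, swapFun, List.Nodup.idxOf_getElem (by decide) g (show g < letters.length from hg)]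
    rfl
  · have hlt : ∀ g ∈ spiderW, g < 8 := fun g hg => by have := spider_lt g hg; omega
    rw [spider, map_prodW, ← prodW_append, prodW_congr (gen' := genOf letters swapFun) ?_,
      hmap _ hlt]
    · refine setupA.eq_of_bases chain_ok size_eq (fun g hg => ?_) (fun g hg => ?_) ?_
      · obtain ⟨g', hg', rfl⟩ := List.mem_map.mp hg
        rw [hK]; exact (swapL_lt _ (hlt g' hg')).1
      · exact (List.mem_append.mp hg).elim (spider_lt g) (spider_lt g)
      · have h := swap_ok
        simp only [Bool.and_eq_true] at h
        exact h.1.2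
    · intro g hg
      rw [gen, presGen, genOf_of_lt (show g < letters.length from hlt g hg), PresentedGroup.toGroup.of,
        genOf_of_lt (show g < letters.length from hlt g hg)]

/-- the letters of the other E7 -/
def otherSeven : List ℕ := [0, 1, 2, 3, 4, 6, 7]

/-- Only powers of the spider commute with the other seven letters. -/
theorem comm_other {x : W3} (hx : ∀ g ∈ otherSeven, gen g * x = x * gen g) :
    ∃ m : ℕ, x = spider ^ m := by
  obtain ⟨σ, hσ, hs⟩ := exists_swap
  have hinv : ∀ y : W3, σ (σ y) = y := by
    intro y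
    have e : σ.comp σ = MonoidHom.id W3 := PresentedGroup.ext fun z => by
      have h : letters.idxOf z < 8 := List.idxOf_lt_length_iff.mpr (mem_letters z)
      rw [MonoidHom.comp_apply, ← gen_of z, hσ _ h, hσ _ (swapL_lt _ h).1, (swapL_lt _ h).2]
      rfl
    exact DFunLike.congr_fun e y
  have hseven : ∀ g < 7, swapL g ∈ otherSeven := by decide +kernel
  obtain ⟨m, hm⟩ := comm_seven (x := σ x) fun g hg => by
    have h := congrArg σ (hx _ (hseven g hg))
    rw [map_mul, map_mul, hσ _ (swapL_lt g (by omega)).1, (swapL_lt g (by omega)).2] at h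
    exact h
  exact ⟨2 * m, by rw [← hinv x, hm, map_pow, hs, ← pow_two, pow_mul]⟩

end CfsgLib.Fi24Spider
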